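import Cfsg.Agent.S0540

/-!
Flavell's form of the zipper lemma: if `A < G` has normal closure `G` and `Y` is the join of the
proper subgroups `H ≥ A` generated by their conjugates of `A`, then `Y = G` or `A` lies in a
unique maximal subgroup.

Conjugates are written `c g A` for `MulAut.conj g • A`.
-/

set_option autoImplicit false
set_option linter.style.haveILetI false
set_option linter.unusedSectionVars false

open Pointwise Subgroup

namespace Cfsg.Agent.Zipper

universe u

variable {G : Type u} [Group G]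

local notation "c" => fun g H => MulAut.conj g • H

/-- `H` is generated by the conjugates of `A` under `H`. -/
def GenBy (A H : Subgroup G) : Prop :=
  ∀ K : Subgroup G, (∀ h ∈ H, MulAut.conj h • A ≤ K) → H ≤ K

theorem genBy_iff {A H : Subgroup G} (hAH : A ≤ H) :
    GenBy A H ↔ Subgroup.normalClosure ((A.subgroupOf H : Subgroup H) : Set H) = ⊤ := by
  constructor
  · intro h
    rw [eq_top_iff]
    intro x _
    have hle := h ((Subgroup.normalClosure ((A.subgroupOf H : Subgroup H) : Set H)).map H.subtype)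
      (fun k hk a ha => by
        rw [Coprime.mem_conj_smul] at ha
        refine ⟨⟨k, hk⟩ * ⟨k⁻¹ * a * k, hAH ha⟩ * ⟨k, hk⟩⁻¹, ?_, by simp [mul_assoc]⟩
        exact (Subgroup.normalClosure_normal (s := ((A.subgroupOf H : Subgroup H) : Set H))).conj_mem _
          (Subgroup.subset_normalClosure (show ((⟨k⁻¹ * a * k, hAH ha⟩ : H) : G) ∈ A from ha))
          ⟨k, hk⟩)
    obtain ⟨y, hy, hyx⟩ := hle x.2
    exact (Subtype.ext hyx : y = x) ▸ hy
  · intro h K hK x hx
    have hle : Subgroup.normalClosure ((A.subgroupOf H : Subgroup H) : Set H) ≤ K.subgroupOf H := by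
      rw [Subgroup.normalClosure, Subgroup.closure_le]
      intro y hy
      obtain ⟨a, ha, hc⟩ := Group.mem_conjugatesOfSet_iff.mp hy
      obtain ⟨k, rfl⟩ := isConj_iff.mp hc
      refine hK k k.2 (Coprime.mem_conj_smul.2 ?_)
      have : (a : G) ∈ A := ha
      simpa [mul_assoc] using this
    exact hle (h ▸ Subgroup.mem_top (⟨x, hx⟩ : H))

/-- The subgroups whose join is `Y`. -/
def Closed (A H : Subgroup G) : Prop :=
  A ≤ H ∧ H ≠ ⊤ ∧ GenBy A H

theorem setOf_closed_eq (A : Subgroup G) :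
    {H : Subgroup G | A ≤ H ∧ H ≠ ⊤ ∧
        Subgroup.normalClosure ((A.subgroupOf H : Subgroup ↥H) : Set ↥H) = ⊤} =
      {H | Closed A H} :=
  Set.ext fun _ => ⟨fun h => ⟨h.1, h.2.1, (genBy_iff h.1).2 h.2.2⟩,
    fun h => ⟨h.1, h.2.1, (genBy_iff h.1).1 h.2.2⟩⟩

theorem genBy_self (A : Subgroup G) : GenBy A A := fun K hK => by
  simpa using hK 1 A.one_mem

theorem GenBy.trans {A D H : Subgroup G} (hDH : D ≤ H) (hD : GenBy A D) (hH : GenBy D H) :
    GenBy A H := by
  intro K hK
  refine hH K fun k hk => ?_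
  rw [← inv_inv k, Coprime.conj_inv_smul_le]
  refine hD _ fun d hd => ?_
  rw [← Coprime.conj_inv_smul_le, inv_inv, Coprime.conj_smul_conj_smul]
  exact hK _ (H.mul_mem hk (hDH hd))

theorem isSubnormal_of_le {A H K : Subgroup G} (hHK : H ≤ K)
    (hA : (A.subgroupOf K).IsSubnormal) : (A.subgroupOf H).IsSubnormal :=
  hA.comap (Subgroup.inclusion hHK)

theorem eq_of_genBy_of_isSubnormal {A H : Subgroup G} (hAH : A ≤ H) (hg : GenBy A H)
    (hsn : (A.subgroupOf H).IsSubnormal) : A = H := by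
  rcases hsn.lt_normal with h | ⟨N, hN, hAN, hNtop⟩
  · exact le_antisymm hAH (Subgroup.subgroupOf_eq_top.1 h)
  · exfalso
    haveI := hN
    have h := (genBy_iff hAH).1 hg
    exact hNtop.ne (top_le_iff.1 (h ▸ Subgroup.normalClosure_le_normal hAN))

theorem transfer {G' : Type*} [Group G'] (f : G →* G') (hf : Function.Injective f)
    {X Y : Subgroup G} (h : (X.subgroupOf Y).IsSubnormal) :
    ((X.map f).subgroupOf (Y.map f)).IsSubnormal := by
  let e := Y.equivMapOfInjective f hf
  have he : (X.subgroupOf Y).map e.toMonoidHom = (X.map f).subgroupOf (Y.map f) := by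
    ext z
    constructor
    · rintro ⟨y, hy, rfl⟩
      exact mem_map_of_mem f hy
    · rintro ⟨x, hx, hxz⟩
      refine ⟨e.symm z, ?_, e.apply_symm_apply z⟩
      have : f (e.symm z : G) = f x := by
        rw [hxz, ← coe_equivMapOfInjective_apply Y f hf]
        exact congrArg Subtype.val (e.apply_symm_apply z)
      show (e.symm z : G) ∈ X
      rw [hf this]; exact hx
  rw [← he]
  exact h.map e.surjective

theorem conj_isSubnormal (g : G) {A V : Subgroup G} (h : (A.subgroupOf V).IsSubnormal) :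
    ((MulAut.conj g • A).subgroupOf (MulAut.conj g • V)).IsSubnormal :=
  transfer (MulAut.conj g).toMonoidHom (MulAut.conj g).injective h

theorem conj_eq_top_iff {g : G} {H : Subgroup G} : MulAut.conj g • H = ⊤ ↔ H = ⊤ := by
  constructor
  · intro h
    rw [eq_top_iff]
    intro x _
    have := Coprime.mem_conj_smul.1 (h ▸ Subgroup.mem_top (g * x * g⁻¹) :
      g * x * g⁻¹ ∈ MulAut.conj g • H)
    simpa [mul_assoc] using this
  · rintro rfl
    exact Subgroup.Normal.conj_smul_eq_self g ⊤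

theorem conj_inv_conj (g : G) (H : Subgroup G) :
    MulAut.conj g⁻¹ • (MulAut.conj g • H) = H := by
  rw [Coprime.conj_smul_conj_smul, inv_mul_cancel, map_one, one_smul]

theorem conj_conj_inv (g : G) (H : Subgroup G) :
    MulAut.conj g • (MulAut.conj g⁻¹ • H) = H := by
  rw [Coprime.conj_smul_conj_smul, mul_inv_cancel, map_one, one_smul]

theorem isCoatom_conj {M : Subgroup G} (hM : IsCoatom M) (g : G) :
    IsCoatom (MulAut.conj g • M) := by
  refine ⟨fun h => hM.1 (conj_eq_top_iff.1 h), fun K hK => ?_⟩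
  have hlt : M < MulAut.conj g⁻¹ • K := by
    refine lt_of_le_of_ne ?_ fun e => hK.ne (by rw [e, conj_conj_inv])
    rw [← conj_inv_conj g M]
    exact Coprime.conj_smul_mono hK.le g⁻¹
  exact conj_eq_top_iff.1 (hM.2 _ hlt)

theorem exists_coatom_ge [Finite G] {H : Subgroup G} (hH : H ≠ ⊤) :
    ∃ M : Subgroup G, IsCoatom M ∧ H ≤ M := by
  obtain ⟨M, hHM, hM⟩ := Finite.exists_le_maximal (p := fun K : Subgroup G => K ≠ ⊤) hH
  exact ⟨M, ⟨hM.1, fun K hK => by_contra fun hne => hK.not_ge (hM.2 hne hK.le)⟩, hHM⟩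

/-- The subnormal closure of `A` in `X`. -/
theorem exists_subnormal_closure [Finite G] {A X : Subgroup G} (hAX : A ≤ X) :
    ∃ D : Subgroup G, A ≤ D ∧ D ≤ X ∧ GenBy A D ∧ (D.subgroupOf X).IsSubnormal := by
  obtain ⟨D, -, hD⟩ := Finite.exists_le_minimal (a := X)
    (p := fun D : Subgroup G => A ≤ D ∧ D ≤ X ∧ (D.subgroupOf X).IsSubnormal)
    ⟨hAX, le_rfl, by rw [Subgroup.subgroupOf_self]; exact IsSubnormal.top⟩
  obtain ⟨hAD, hDX, hDsn⟩ := hD.1
  refine ⟨D, hAD, hDX, ?_, hDsn⟩
  set N := (Subgroup.normalClosure ((A.subgroupOf D : Subgroup D) : Set D)).map D.subtype with hN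
  have hND : N ≤ D := Subgroup.map_subtype_le _
  have hAN : A ≤ N := fun a ha =>
    ⟨⟨a, hAD ha⟩, Subgroup.subset_normalClosure (show ((⟨a, hAD ha⟩ : D) : G) ∈ A from ha), rfl⟩
  have hsn : (N.subgroupOf X).IsSubnormal := by
    refine IsSubnormal.trans (H := N.subgroupOf X) (K := D.subgroupOf X) ?_ ?_ hDsn
    · exact Subgroup.comap_mono hND
    · have h1 : (N.subgroupOf D).IsSubnormal := by
        rw [hN, Subgroup.subgroupOf, Subgroup.comap_map_eq_self_of_injective D.subtype_injective]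
        exact (Subgroup.normalClosure_normal).isSubnormal
      exact h1.comap ((Subgroup.subgroupOfEquivOfLe hDX).toMonoidHom)
  have heq : D ≤ N := hD.2 ⟨hAN, hND.trans hDX, hsn⟩ hND
  rw [genBy_iff hAD]
  apply Subgroup.map_injective D.subtype_injective
  rw [← hN, ← MonoidHom.range_eq_map, Subgroup.range_subtype]
  exact le_antisymm hND heq

theorem sSup_isSubnormal_subgroupOf [Finite G] {T : Set (Subgroup G)} {X : Subgroup G}
    (hle : ∀ B ∈ T, B ≤ X) (hsn : ∀ B ∈ T, (B.subgroupOf X).IsSubnormal) :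
    ((sSup T).subgroupOf X).IsSubnormal := by
  have h := SubnormalLib.isSubnormal_iSup (f := fun B : T => (B.1).subgroupOf X)
    (fun B => hsn B.1 B.2)
  have e : (⨆ B : T, (B.1).subgroupOf X) = (sSup T).subgroupOf X := by
    apply Subgroup.map_injective X.subtype_injective
    rw [Subgroup.map_iSup, Subgroup.map_subgroupOf_eq_of_le (sSup_le hle), sSup_eq_iSup']
    exact iSup_congr fun B => Subgroup.map_subgroupOf_eq_of_le (hle B.1 B.2)
  exact e ▸ h

/-- In a conjugation-closed family of subnormal subgroups of `V`, some member outside a proper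
part normalises the join of that part. -/
theorem exists_normalizing [Finite G] {V : Subgroup G} {S T : Set (Subgroup G)}
    (hle : ∀ B ∈ S, B ≤ V) (hsn : ∀ B ∈ S, (B.subgroupOf V).IsSubnormal)
    (hconj : ∀ B ∈ S, ∀ v ∈ V, MulAut.conj v • B ∈ S) (hT : T ⊂ S) :
    ∃ B ∈ S, B ∉ T ∧ B ≤ normalizer ((sSup T : Subgroup G) : Set G) := by
  obtain ⟨hTsub, hTne⟩ := hT
  let S' : Set (Subgroup V) := {X | X.map V.subtype ∈ S}
  let T' : Set (Subgroup V) := {X | X.map V.subtype ∈ T}
  have hT' : T' ⊂ S' := by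
    refine ⟨fun X hX => hTsub hX, fun h => hTne fun B hB => ?_⟩
    have hB' : B.subgroupOf V ∈ S' := by
      show _ ∈ S
      rwa [Subgroup.map_subgroupOf_eq_of_le (hle B hB)]
    have h' := h hB'
    change _ ∈ T at h'
    rwa [Subgroup.map_subgroupOf_eq_of_le (hle B hB)] at h'
  obtain ⟨X, hX, hX0, hXn⟩ := SubnormalLib.exists_normalizing_member (S := S') (S₀ := T')
    (fun X hX => by
      have h := hsn _ hX
      rwa [Subgroup.subgroupOf, Subgroup.comap_map_eq_self_of_injective V.subtype_injective] at h)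
    (fun X hX v => by
      show _ ∈ S
      rw [Coprime.map_subtype_conj_smul]
      exact hconj _ hX v v.2) hT'
  refine ⟨X.map V.subtype, hX, hX0, ?_⟩
  have hJ : (sSup T' : Subgroup V).map V.subtype = sSup T := by
    refine le_antisymm (Subgroup.map_le_iff_le_comap.2 (sSup_le fun Y hY => ?_))
      (sSup_le fun B hB => ?_)
    · exact Subgroup.map_le_iff_le_comap.1 (le_sSup hY)
    · rw [← Subgroup.map_subgroupOf_eq_of_le (hle B (hTsub hB))]
      refine Subgroup.map_mono (le_sSup ?_)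
      show _ ∈ T
      rwa [Subgroup.map_subgroupOf_eq_of_le (hle B (hTsub hB))]
  rw [← hJ]
  exact (Subgroup.map_mono hXn).trans (Subgroup.le_normalizer_map _)

/-- No proper normal subgroup contains `A`. -/
def GenG (A : Subgroup G) : Prop := Subgroup.normalClosure (A : Set G) = ⊤

theorem GenG.mono {A B : Subgroup G} (h : GenG A) (hAB : A ≤ B) : GenG B :=
  top_le_iff.1 (h ▸ Subgroup.normalClosure_mono hAB)

theorem GenG.normalizer_ne_top {A H : Subgroup G} (h : GenG A) (hAH : A ≤ H) (hH : H ≠ ⊤) :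
    normalizer (H : Set G) ≠ ⊤ := fun e => by
  haveI : H.Normal := normalizer_eq_top_iff.mp e
  exact hH (top_le_iff.1 (h ▸ Subgroup.normalClosure_le_normal hAH))

theorem aux : ∀ (n : ℕ) (G : Type u) [Group G] [Finite G] (A : Subgroup G),
    Nat.card G - Nat.card A ≤ n → GenG A → sSup {H | Closed A H} ≠ ⊤ → A ≠ ⊤ →
    ∀ M₁ M₂ : Subgroup G, IsCoatom M₁ → A ≤ M₁ → IsCoatom M₂ → A ≤ M₂ → M₁ = M₂ := by
  intro n
  induction n using Nat.strong_induction_on with
  | _ n ih0 =>
    intro G _ _ A hn hgen hY hAtop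
    classical
    have ih : ∀ D : Subgroup G, A < D → D ≠ ⊤ → sSup {H | Closed D H} ≠ ⊤ →
        ∀ M₁ M₂ : Subgroup G, IsCoatom M₁ → D ≤ M₁ → IsCoatom M₂ → D ≤ M₂ → M₁ = M₂ := by
      intro D hAD hD hYD
      have h1 : Nat.card A < Nat.card D := by
        have := Set.ncard_lt_ncard (SetLike.coe_ssubset_coe.mpr hAD)
        rwa [← Nat.card_coe_set_eq, ← Nat.card_coe_set_eq] at this
      have h2 := Subgroup.card_le_card_group D
      exact ih0 (Nat.card G - Nat.card D) (by omega) G D le_rfl (hgen.mono hAD.le) hYD hD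
    set Y := sSup {H | Closed A H} with hYdef
    have hAcl : Closed A A := ⟨le_rfl, hAtop, genBy_self A⟩
    have hAY : A ≤ Y := le_sSup hAcl
    have hYgen : GenBy A Y := fun K hK => sSup_le fun H hH =>
      hH.2.2 K fun k hk => hK k (le_sSup hH hk)
    have hYcl : Closed A Y := ⟨hAY, hY, hYgen⟩
    -- passing to a larger closed subgroup does not enlarge `Y`
    have hYle : ∀ D, Closed A D → sSup {H | Closed D H} ≤ Y := fun D hD =>
      sSup_le fun H hH => le_sSup (show Closed A H from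
        ⟨hD.1.trans hH.1, hH.2.1, hD.2.2.trans hH.1 hH.2.2⟩)
    have hYle' : ∀ D, Closed A D → sSup {H | Closed D H} ≠ ⊤ := fun D hD e =>
      hY (top_le_iff.1 (e ▸ hYle D hD))
    -- the case `Y = A`: Wielandt's zipper lemma
    by_cases hYA : Y = A
    · have hsub : ∀ V : Subgroup G, A ≤ V → V ≠ ⊤ → (A.subgroupOf V).IsSubnormal := by
        intro V hAV hV
        obtain ⟨D, hAD, hDV, hDg, hDsn⟩ := exists_subnormal_closure hAV
        have hDcl : Closed A D := ⟨hAD, fun e => hV (top_le_iff.1 (e ▸ hDV)), hDg⟩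
        have : D = A := le_antisymm (hYA ▸ (le_sSup hDcl : D ≤ Y)) hAD
        rwa [this] at hDsn
      let S : Subgroup G → Set (Subgroup G) :=
        fun V => {B | (∃ g : G, B = MulAut.conj g • A) ∧ B ≤ V ∧ (B.subgroupOf V).IsSubnormal}
      have hAS : ∀ V : Subgroup G, A ≤ V → V ≠ ⊤ → A ∈ S V := fun V hAV hV =>
        ⟨⟨1, by rw [map_one, one_smul]⟩, hAV, hsub V hAV hV⟩
      obtain ⟨M, ⟨hAM, hM⟩, hmax⟩ := Cfsg.Agent.S0540.result A {V | A ≤ V ∧ V ≠ ⊤}
        ⟨A, le_rfl, hAtop⟩ S (fun V B => Iff.rfl) (fun V hV => hAS V hV.1 hV.2)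
        (by
          rintro V ⟨hAV, hV⟩ W - B ⟨⟨g, rfl⟩, -, -⟩ hBV
          refine ⟨⟨g, rfl⟩, hBV, ?_⟩
          have hAV' : A ≤ MulAut.conj g⁻¹ • V := by
            rw [← conj_inv_conj g A]
            exact Coprime.conj_smul_mono hBV g⁻¹
          have := conj_isSubnormal g (hsub _ hAV' fun e => hV (conj_eq_top_iff.1 e))
          rwa [conj_conj_inv] at this)
        (by
          rintro V ⟨hAV, hV⟩ W ⟨hAW, hW⟩
          set T : Subgroup G := sSup (S V ∩ S W) with hT
          have hAT : A ≤ T := le_sSup ⟨hAS V hAV hV, hAS W hAW hW⟩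
          have hTV : T ≤ V := sSup_le fun B hB => hB.1.2.1
          exact ⟨normalizer (T : Set G), ⟨hAT.trans le_normalizer,
            hgen.normalizer_ne_top hAT fun e => hV (top_le_iff.1 (e ▸ hTV))⟩, le_rfl⟩)
      intro M₁ M₂ h1 hA1 h2 hA2
      have e1 : M₁ = M := (h1.le_iff.1 (hmax M₁ ⟨hA1, h1.1⟩)).resolve_left hM |>.symm
      have e2 : M₂ = M := (h2.le_iff.1 (hmax M₂ ⟨hA2, h2.1⟩)).resolve_left hM |>.symm
      rw [e1, e2]
    -- the case `A < Y`
    have hAY' : A < Y := lt_of_le_of_ne hAY (Ne.symm hYA)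
    obtain ⟨M, hM, hYM⟩ := exists_coatom_ge hY
    have hMuniq : ∀ X : Subgroup G, IsCoatom X → Y ≤ X → X = M := fun X hX hYX =>
      ih Y hAY' hY (hYle' Y hYcl) X M hX hYX hM hYM
    have hAM : A ≤ M := hAY.trans hYM
    suffices hall : ∀ W : Subgroup G, IsCoatom W → A ≤ W → W = M by
      intro M₁ M₂ h1 hA1 h2 hA2
      rw [hall M₁ h1 hA1, hall M₂ h2 hA2]
    have hNA : ∀ x : G, MulAut.conj x • A = A → x ∈ M := by
      intro x hx
      have hle : MulAut.conj x • Y ≤ Y := by
        rw [← inv_inv x, Coprime.conj_inv_smul_le]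
        refine hYgen _ fun h hh => ?_
        rw [← Coprime.conj_inv_smul_le, inv_inv, Coprime.conj_smul_conj_smul]
        have hxh : MulAut.conj (x * h) • A = MulAut.conj (x * h * x⁻¹) • A := by
          conv_lhs => rw [← inv_mul_cancel_right (x * h) x, ← Coprime.conj_smul_conj_smul, hx]
        rw [hxh]
        have hclx : Closed A (MulAut.conj x • Y) := by
          refine ⟨hx ▸ Coprime.conj_smul_mono hAY x, fun e => hY (conj_eq_top_iff.1 e), ?_⟩
          intro K hK
          rw [← inv_inv x, Coprime.conj_inv_smul_le]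
          refine hYgen _ fun y hy => ?_
          rw [← Coprime.conj_inv_smul_le, inv_inv, Coprime.conj_smul_conj_smul]
          have hxy : MulAut.conj (x * y) • A = MulAut.conj (x * y * x⁻¹) • A := by
            conv_lhs => rw [← inv_mul_cancel_right (x * y) x, ← Coprime.conj_smul_conj_smul, hx]
          rw [hxy]
          exact hK _ (Coprime.mem_conj_smul.2 (by simpa [mul_assoc] using hy))
        have hmem : x * h * x⁻¹ ∈ Y := (le_sSup hclx : MulAut.conj x • Y ≤ Y)
          (Coprime.mem_conj_smul.2 (by simpa [mul_assoc] using hh))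
        exact (Coprime.conj_smul_mono hAY _).trans (Coprime.conj_smul_eq_of_mem hmem).le
      have hxN : x ∈ normalizer (Y : Set G) := Coprime.conj_smul_eq_self_iff.1
        (Subgroup.eq_of_le_of_card_ge hle (Coprime.card_conj_smul _ x).ge)
      obtain ⟨X, hX, hNX⟩ := exists_coatom_ge (hgen.normalizer_ne_top hAY hY)
      exact hMuniq X hX (le_normalizer.trans hNX) ▸ hNX hxN
    have hNM : ∀ x : G, MulAut.conj x • M = M → x ∈ M := by
      intro x hx
      have hxN : x ∈ normalizer (M : Set G) := Coprime.conj_smul_eq_self_iff.1 hx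
      rcases hM.le_iff.1 (le_normalizer : M ≤ normalizer (M : Set G)) with e | e
      · exact absurd e (hgen.normalizer_ne_top hAM hM.1)
      · exact e ▸ hxN
    have hMmem : ∀ x ∈ M, MulAut.conj x • M = M := fun x hx => Coprime.conj_smul_eq_of_mem hx
    have hA_not_sn : ¬ (A.subgroupOf M).IsSubnormal := fun h =>
      hYA (eq_of_genBy_of_isSubnormal hAY hYgen (isSubnormal_of_le hYM h)).symm
    -- `A` is subnormal in every other maximal subgroup containing it
    have hsn : ∀ X : Subgroup G, IsCoatom X → A ≤ X → X ≠ M → (A.subgroupOf X).IsSubnormal := by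
      intro X hX hAX hXM
      obtain ⟨D, hAD, hDX, hDg, hDsn⟩ := exists_subnormal_closure hAX
      have hDcl : Closed A D := ⟨hAD, fun e => hX.1 (top_le_iff.1 (e ▸ hDX)), hDg⟩
      rcases hAD.lt_or_eq with hlt | heq
      · exact absurd (ih D hlt hDcl.2.1 (hYle' D hDcl) X M hX hDX hM
          ((le_sSup hDcl : D ≤ Y).trans hYM)) hXM
      · exact heq ▸ hDsn
    have hsn' : ∀ (g : G) (X : Subgroup G), IsCoatom X → MulAut.conj g • A ≤ X →
        X ≠ MulAut.conj g • M → ((MulAut.conj g • A).subgroupOf X).IsSubnormal := by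
      intro g X hX hle hne
      have h := conj_isSubnormal g (hsn (MulAut.conj g⁻¹ • X) (isCoatom_conj hX _)
        (by rw [← conj_inv_conj g A]; exact Coprime.conj_smul_mono hle _)
        (fun e => hne (by rw [← e, conj_conj_inv])))
      rwa [conj_conj_inv] at h
    -- a larger subgroup generated by conjugates, in two maximal subgroups
    have lemQ : ∀ T : Set (Subgroup G), A ∈ T → (∀ B ∈ T, ∃ g : G, B = MulAut.conj g • A) →
        sSup T ≠ A → ∀ X₁ X₂ : Subgroup G, IsCoatom X₁ → IsCoatom X₂ → X₁ ≠ X₂ →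
        sSup T ≤ X₁ → sSup T ≤ X₂ →
        ∃ g : G, MulAut.conj g • A ∈ T ∧ MulAut.conj g • M ≠ M ∧ sSup T ≤ MulAut.conj g • M := by
      intro T hAT hT hne X₁ X₂ hX1 hX2 hX12 h1 h2
      by_contra hcon
      set H := sSup T with hH
      have hAH : A ≤ H := le_sSup hAT
      have hHsn : ∀ X : Subgroup G, IsCoatom X → H ≤ X → X ≠ M →
          (H.subgroupOf X).IsSubnormal := by
        intro X hX hHX hXM
        refine sSup_isSubnormal_subgroupOf (fun B hB => (le_sSup hB).trans hHX) fun B hB => ?_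
        obtain ⟨g, rfl⟩ := hT B hB
        refine hsn' g X hX ((le_sSup hB).trans hHX) fun e => hcon ⟨g, hB, ?_, e ▸ hHX⟩
        exact fun e' => hXM (e.trans e')
      have hHtop : H ≠ ⊤ := fun e => hX1.1 (top_le_iff.1 (e ▸ h1))
      have hK : ∀ K, Closed H K → K = H ∨ (K ≤ M ∧ H ≤ M) := by
        intro K hKc
        obtain ⟨X, hX, hKX⟩ := exists_coatom_ge hKc.2.1
        by_cases hXM : X = M
        · exact Or.inr ⟨hXM ▸ hKX, hXM ▸ (hKc.1.trans hKX)⟩
        · exact Or.inl (eq_of_genBy_of_isSubnormal hKc.1 hKc.2.2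
            (isSubnormal_of_le hKX (hHsn X hX (hKc.1.trans hKX) hXM))).symm
      have hYH : sSup {K | Closed H K} ≠ ⊤ := by
        by_cases hHM : H ≤ M
        · exact fun e => hM.1 (top_le_iff.1 (e ▸ (sSup_le fun K hKc =>
            (hK K hKc).elim (fun e => e.le.trans hHM) (fun h => h.1))))
        · exact fun e => hHtop (top_le_iff.1 (e ▸ (sSup_le fun K hKc =>
            (hK K hKc).elim (fun e => e.le) (fun h => absurd h.2 hHM))))
      exact hX12 (ih H (lt_of_le_of_ne hAH (Ne.symm hne)) hHtop hYH X₁ X₂ hX1 h1 hX2 h2)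
    have lemR0 : ∀ g : G, MulAut.conj g • A ≠ A → ∀ X₁ X₂ : Subgroup G, IsCoatom X₁ →
        IsCoatom X₂ → X₁ ≠ X₂ → A ≤ X₁ → A ≤ X₂ → MulAut.conj g • A ≤ X₁ →
        MulAut.conj g • A ≤ X₂ → MulAut.conj g • M ≠ M ∧ A ≤ MulAut.conj g • M := by
      intro g hg X₁ X₂ hX1 hX2 h12 a1 a2 b1 b2
      have hne : sSup ({A, MulAut.conj g • A} : Set (Subgroup G)) ≠ A := by
        intro e
        apply hg
        refine Subgroup.eq_of_le_of_card_ge (le_trans (le_sSup (by simp)) e.le) ?_
        rw [Coprime.card_conj_smul]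
      obtain ⟨h, hh, hhM, hle⟩ := lemQ {A, MulAut.conj g • A} (by simp)
        (by rintro B (rfl | rfl)
            · exact ⟨1, by rw [map_one, one_smul]⟩
            · exact ⟨g, rfl⟩) hne X₁ X₂ hX1 hX2 h12
        (sSup_le (by rintro B (rfl | rfl) <;> assumption))
        (sSup_le (by rintro B (rfl | rfl) <;> assumption))
      rcases hh with e | e
      · exact absurd (hMmem h (hNA h e)) hhM
      · have h2 : g⁻¹ * h ∈ M := hNA _ (by
          rw [← Coprime.conj_smul_conj_smul, e, conj_inv_conj])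
        have h3 : MulAut.conj h • M = MulAut.conj g • M := by
          conv_lhs => rw [← mul_inv_cancel_left g h, ← Coprime.conj_smul_conj_smul, hMmem _ h2]
        rw [← h3]
        exact ⟨hhM, (le_sSup (by simp)).trans hle⟩
    have lemR : ∀ g : G, MulAut.conj g • A ≠ A → ∀ X₁ X₂ : Subgroup G, IsCoatom X₁ →
        IsCoatom X₂ → X₁ ≠ X₂ → A ≤ X₁ → A ≤ X₂ → MulAut.conj g • A ≤ X₁ →
        MulAut.conj g • A ≤ X₂ →
        MulAut.conj g • M ≠ M ∧ A ≤ MulAut.conj g • M ∧ MulAut.conj g • A ≤ M := by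
      intro g hg X₁ X₂ hX1 hX2 h12 a1 a2 b1 b2
      refine ⟨(lemR0 g hg X₁ X₂ hX1 hX2 h12 a1 a2 b1 b2).1,
        (lemR0 g hg X₁ X₂ hX1 hX2 h12 a1 a2 b1 b2).2, ?_⟩
      have hmv : ∀ {P Q : Subgroup G}, MulAut.conj g • P ≤ Q → P ≤ MulAut.conj g⁻¹ • Q :=
        fun {P Q} h => conj_inv_conj g P ▸ Coprime.conj_smul_mono h g⁻¹
      have h := (lemR0 g⁻¹ (fun e => hg (by
          conv_lhs => rw [← e, conj_conj_inv])) (MulAut.conj g⁻¹ • X₁) (MulAut.conj g⁻¹ • X₂)
        (isCoatom_conj hX1 _) (isCoatom_conj hX2 _)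
        (fun e => h12 (by rw [← conj_conj_inv g X₁, e, conj_conj_inv]))
        (hmv b1) (hmv b2) (Coprime.conj_smul_mono a1 _) (Coprime.conj_smul_mono a2 _)).2
      exact conj_conj_inv g M ▸ Coprime.conj_smul_mono h g
    intro W hW hAW
    by_contra hWM
    -- the pairs
    let P : G → Prop := fun g =>
      MulAut.conj g • M ≠ M ∧ A ≤ MulAut.conj g • M ∧ MulAut.conj g • A ≤ M
    let T : G → Set (Subgroup G) := fun g =>
      {B | (∃ h : G, B = MulAut.conj h • A) ∧ B ≤ M ∧ B ≤ MulAut.conj g • M}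
    have hPne : {g : G | P g}.Nonempty := by
      let S : Set (Subgroup G) :=
        {B | (∃ h : G, B = MulAut.conj h • A) ∧ B ≤ W ∧ (B.subgroupOf W).IsSubnormal}
      have hAS : A ∈ S := ⟨⟨1, by rw [map_one, one_smul]⟩, hAW, hsn W hW hAW hWM⟩
      have hSc : ∀ B ∈ S, ∀ w ∈ W, MulAut.conj w • B ∈ S := by
        rintro B ⟨⟨h, rfl⟩, hle, hB⟩ w hw
        have hWw := Coprime.conj_smul_eq_of_mem hw
        refine ⟨⟨w * h, Coprime.conj_smul_conj_smul A w h⟩,
          (Coprime.conj_smul_mono hle w).trans hWw.le, ?_⟩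
        have := conj_isSubnormal w hB
        rwa [hWw] at this
      have hsub : ({A} : Set (Subgroup G)) ⊂ S := by
        refine ⟨Set.singleton_subset_iff.2 hAS, fun h => hWM ?_⟩
        have hWle : W ≤ M := fun w hw => hNA w (h (hSc A hAS w hw))
        exact ((hW.le_iff.1 hWle).resolve_left hM.1).symm
      obtain ⟨B, hB, hB0, hBn⟩ := exists_normalizing (fun B hB => hB.2.1) (fun B hB => hB.2.2)
        hSc hsub
      obtain ⟨⟨g, rfl⟩, hBW, -⟩ := hB
      rw [sSup_singleton] at hBn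
      have hBM : MulAut.conj g • A ≤ M := fun x hx =>
        hNA x (Coprime.conj_smul_eq_self_iff.2 (hBn hx))
      exact ⟨g, lemR g (fun e => hB0 (Set.mem_singleton_iff.2 e)) M W hM hW (Ne.symm hWM)
        hAM hAW hBM hBW⟩
    obtain ⟨g₀, hg₀, hbest⟩ :=
      Set.exists_max_image {g : G | P g} (fun g => (T g).ncard) (Set.toFinite _) hPne
    have key : ∀ g : G, P g → (∀ h : G, P h → (T h).ncard ≤ (T g).ncard) →
        ∀ X : Subgroup G, IsCoatom X → normalizer ((sSup (T g) : Subgroup G) : Set G) ≤ X →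
          X = M := by
      intro g hg hmaxg X hX hNX
      by_contra hXM
      obtain ⟨hgM, hAgM, hgAM⟩ := hg
      have hZ : IsCoatom (MulAut.conj g • M) := isCoatom_conj hM g
      have hAT : A ∈ T g := ⟨⟨1, by rw [map_one, one_smul]⟩, hAM, hAgM⟩
      have hgT : MulAut.conj g • A ∈ T g := ⟨⟨g, rfl⟩, hgAM, Coprime.conj_smul_mono hAM g⟩
      set U := T g \ {A} with hU
      let S : Set (Subgroup G) :=
        {B | (∃ h : G, B = MulAut.conj h • A) ∧ B ≤ M ∧ (B.subgroupOf M).IsSubnormal}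
      have hSc : ∀ B ∈ S, ∀ m ∈ M, MulAut.conj m • B ∈ S := by
        rintro B ⟨⟨h, rfl⟩, hle, hB⟩ m hm
        have hMm := hMmem m hm
        refine ⟨⟨m * h, Coprime.conj_smul_conj_smul A m h⟩,
          (Coprime.conj_smul_mono hle m).trans hMm.le, ?_⟩
        have := conj_isSubnormal m hB
        rwa [hMm] at this
      -- members of `T g` other than `A`
      have hmemU : ∀ h : G, MulAut.conj h • A ∈ U → P h := fun h hh =>
        lemR h hh.2 M (MulAut.conj g • M) hM hZ (Ne.symm hgM) hAM hAgM hh.1.2.1 hh.1.2.2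
      have hUS : U ⊆ S := by
        rintro B hB
        obtain ⟨h, rfl⟩ := hB.1.1
        exact ⟨⟨h, rfl⟩, hB.1.2.1, hsn' h M hM hB.1.2.1 (Ne.symm (hmemU h hB).1)⟩
      have hgA : MulAut.conj g • A ≠ A := fun e => hgM (hMmem g (hNA g e))
      have hgU : MulAut.conj g • A ∈ U := ⟨hgT, fun e => hgA e⟩
      -- an element of `M` moving `U` into itself fixes `A`
      have hfix : ∀ m ∈ M, (∀ B ∈ U, MulAut.conj m⁻¹ • B ∈ U) → MulAut.conj m • A = A := by
        intro m hm hmU
        have h1 := hmU _ hgU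
        rw [Coprime.conj_smul_conj_smul] at h1
        have h2 : MulAut.conj m • A ≤ MulAut.conj g • M := by
          have := Coprime.conj_smul_mono (hmemU _ h1).2.1 m
          rwa [Coprime.conj_smul_conj_smul, mul_inv_cancel_left] at this
        have h3 : MulAut.conj m • A ≤ M := (Coprime.conj_smul_mono hAM m).trans (hMmem m hm).le
        by_contra hne
        exact (lemR m hne M (MulAut.conj g • M) hM hZ (Ne.symm hgM) hAM hAgM h3 h2).1 (hMmem m hm)
      have hprop : U ⊂ S := by
        refine ⟨hUS, fun hSU => hYA ?_⟩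
        have hMA : ∀ m ∈ M, MulAut.conj m • A = A := fun m hm =>
          hfix m hm fun B hB => hSU (hSc B (hUS hB) _ (M.inv_mem hm))
        exact le_antisymm (hYgen A fun y hy => (hMA y (hYM hy)).le) hAY
      obtain ⟨C, hC, hCU, hCn⟩ := exists_normalizing (fun B hB => hB.2.1) (fun B hB => hB.2.2)
        hSc hprop
      have hCA : C ≠ A := fun e => hA_not_sn (e ▸ hC.2.2)
      have hCT : C ∉ T g := fun h => hCU ⟨h, hCA⟩
      have hperm : ∀ x ∈ C, ∀ B ∈ U, MulAut.conj x • B ∈ U := by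
        intro x hx B hB
        have hxJ : MulAut.conj x • sSup U = sSup U := Coprime.conj_smul_eq_self_iff.2 (hCn hx)
        have hle : MulAut.conj x • B ≤ sSup U := (Coprime.conj_smul_mono (le_sSup hB) x).trans hxJ.le
        obtain ⟨h, rfl⟩ := hB.1.1
        refine ⟨⟨⟨x * h, Coprime.conj_smul_conj_smul A x h⟩,
          hle.trans (sSup_le fun D hD => hD.1.2.1), hle.trans (sSup_le fun D hD => hD.1.2.2)⟩, ?_⟩
        intro e
        rw [Set.mem_singleton_iff, Coprime.conj_smul_conj_smul] at e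
        have hh : h ∈ M := by
          have := M.mul_mem (M.inv_mem (hC.2.1 hx)) (hNA _ e)
          rwa [inv_mul_cancel_left] at this
        exact (hmemU h hB).1 (hMmem h hh)
      have hCX : C ≤ X := by
        intro x hx
        refine hNX (Coprime.conj_smul_eq_self_iff.1 ?_)
        refine Subgroup.eq_of_le_of_card_ge ?_ (Coprime.card_conj_smul _ x).ge
        rw [← inv_inv x, Coprime.conj_inv_smul_le]
        refine sSup_le fun B hB => ?_
        rw [← Coprime.conj_inv_smul_le, inv_inv]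
        by_cases hBA : B = A
        · rw [hBA, hfix x (hC.2.1 hx) (hperm x⁻¹ (C.inv_mem hx))]
          exact le_sSup hAT
        · exact le_sSup (hperm x hx B ⟨hB, hBA⟩).1
      obtain ⟨⟨h, rfl⟩, hCM, -⟩ := hC
      have hTX : ∀ B ∈ T g, B ≤ X := fun B hB =>
        (le_sSup hB).trans (le_normalizer.trans hNX)
      have hPh : P h := lemR h hCA M X hM hX (Ne.symm hXM) hAM (hTX A hAT) hCM hCX
      have hsub : T g ⊂ T h := by
        refine ⟨fun B hB => ?_, fun h' => hCT (h' ⟨⟨h, rfl⟩, hCM, Coprime.conj_smul_mono hAM h⟩)⟩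
        obtain ⟨⟨k, rfl⟩, hBM, -⟩ := id hB
        refine ⟨⟨k, rfl⟩, hBM, ?_⟩
        have hmv : ∀ {R Q : Subgroup G}, MulAut.conj h • R ≤ Q → R ≤ MulAut.conj h⁻¹ • Q :=
          fun {R Q} h' => conj_inv_conj h R ▸ Coprime.conj_smul_mono h' h⁻¹
        by_cases heq : MulAut.conj (h⁻¹ * k) • A = A
        · have : MulAut.conj k • A = MulAut.conj h • A := by
            conv_rhs => rw [← heq, Coprime.conj_smul_conj_smul, mul_inv_cancel_left]
          rw [this]
          exact Coprime.conj_smul_mono hAM h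
        · have := (lemR (h⁻¹ * k) heq (MulAut.conj h⁻¹ • M) (MulAut.conj h⁻¹ • X)
            (isCoatom_conj hM _) (isCoatom_conj hX _)
            (fun e => hXM (by rw [← conj_conj_inv h X, ← e, conj_conj_inv]))
            (hmv hCM) (hmv hCX)
            (by rw [← Coprime.conj_smul_conj_smul]; exact Coprime.conj_smul_mono hBM _)
            (by rw [← Coprime.conj_smul_conj_smul]
                exact Coprime.conj_smul_mono (hTX _ hB) _)).2.2
          have h' := Coprime.conj_smul_mono this h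
          rwa [Coprime.conj_smul_conj_smul, mul_inv_cancel_left] at h'
      have := Set.ncard_lt_ncard hsub (Set.toFinite _)
      have := hmaxg h hPh
      omega
    obtain ⟨h1, h2, h3⟩ := id hg₀
    have hg1 : P g₀⁻¹ := by
      refine ⟨fun e => h1 ?_, ?_, ?_⟩
      · conv_lhs => rw [← e, conj_conj_inv]
      · exact conj_inv_conj g₀ A ▸ Coprime.conj_smul_mono h3 g₀⁻¹
      · exact conj_inv_conj g₀ M ▸ Coprime.conj_smul_mono h2 g₀⁻¹
    have hT1 : T g₀⁻¹ = (fun B => MulAut.conj g₀⁻¹ • B) '' T g₀ := by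
      ext B
      constructor
      · rintro ⟨⟨h, rfl⟩, hBM, hBZ⟩
        refine ⟨MulAut.conj g₀ • MulAut.conj h • A,
          ⟨⟨g₀ * h, Coprime.conj_smul_conj_smul A g₀ h⟩, ?_, Coprime.conj_smul_mono hBM g₀⟩,
          conj_inv_conj g₀ _⟩
        exact conj_conj_inv g₀ M ▸ Coprime.conj_smul_mono hBZ g₀
      · rintro ⟨B', ⟨⟨h, rfl⟩, hBM, hBZ⟩, rfl⟩
        exact ⟨⟨g₀⁻¹ * h, Coprime.conj_smul_conj_smul A g₀⁻¹ h⟩,
          conj_inv_conj g₀ M ▸ Coprime.conj_smul_mono hBZ g₀⁻¹, Coprime.conj_smul_mono hBM g₀⁻¹⟩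
    have hinj : Function.Injective fun B : Subgroup G => MulAut.conj g₀⁻¹ • B :=
      MulAction.injective (MulAut.conj g₀⁻¹)
    have hcard : (T g₀⁻¹).ncard = (T g₀).ncard := by
      rw [hT1, Set.ncard_image_of_injective _ hinj]
    have hJ1 : sSup (T g₀⁻¹) = MulAut.conj g₀⁻¹ • sSup (T g₀) := by
      rw [hT1]
      refine le_antisymm (sSup_le ?_) ?_
      · rintro _ ⟨B, hB, rfl⟩
        exact Coprime.conj_smul_mono (le_sSup hB) _
      · rw [Coprime.conj_inv_smul_le]
        refine sSup_le fun B hB => ?_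
        rw [← Coprime.conj_inv_smul_le]
        exact le_sSup ⟨B, hB, rfl⟩
    set J := sSup (T g₀) with hJ
    have hAJ : A ≤ J := le_sSup ⟨⟨1, by rw [map_one, one_smul]⟩, hAM, h2⟩
    have hJtop : J ≠ ⊤ := fun e => hM.1 (top_le_iff.1 (e ▸ (sSup_le fun B hB => hB.2.1)))
    obtain ⟨X, hX, hNX⟩ := exists_coatom_ge (hgen.normalizer_ne_top hAJ hJtop)
    have e1 : X = M := key g₀ hg₀ (fun h hh => hbest h hh) X hX hNX
    have e2 : MulAut.conj g₀⁻¹ • X = M := by
      refine key g₀⁻¹ hg1 (fun h hh => hcard ▸ hbest h hh) _ (isCoatom_conj hX _) ?_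
      intro x hx
      rw [← Coprime.conj_smul_eq_self_iff, hJ1] at hx
      refine Coprime.mem_conj_smul.2 (hNX (Coprime.conj_smul_eq_self_iff.1 ?_))
      have h5 := congrArg (fun K => MulAut.conj g₀ • K) hx
      simp only [Coprime.conj_smul_conj_smul, mul_inv_cancel, map_one, one_smul] at h5
      rwa [inv_inv, mul_assoc]
    apply h1
    rw [e1] at e2
    conv_lhs => rw [← e2, conj_conj_inv]

/-- Flavell's zipper lemma. -/
theorem zipper {G : Type u} [Group G] [Finite G] (A : Subgroup G) (hA : GenG A) (hAG : A ≠ ⊤) :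
    sSup {H | Closed A H} = ⊤ ∨ ∃! M : Subgroup G, IsCoatom M ∧ A ≤ M := by
  by_cases hY : sSup {H | Closed A H} = ⊤
  · exact Or.inl hY
  · obtain ⟨M, hM, hAM⟩ := exists_coatom_ge hAG
    exact Or.inr ⟨M, ⟨hM, hAM⟩, fun N hN =>
      aux (Nat.card G - Nat.card A) G A le_rfl hA hY hAG N M hN.1 hN.2 hM hAM⟩

end Cfsg.Agent.Zipper
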