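import Cfsg.Agent.Zipper.Flavell

/-!
Consequences of the zipper lemma for iterated commutators `x ↦ ⁅x, a⁆` with a fixed element.
-/

set_option autoImplicit false
set_option linter.style.haveILetI false

open Pointwise Subgroup
open scoped commutatorElement

namespace Cfsg.Agent.Zipper

universe u

variable {G : Type u} [Group G]

/-- If `a` lies in a unique maximal subgroup `M`, an element some iterated commutator of which
with `a` lies in `M` is itself in `M`. -/
theorem mem_of_iterate_commutator_mem [Finite G] {a : G} (hgen : GenG (zpowers a))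
    {M : Subgroup G} (hM : IsCoatom M) (haM : zpowers a ≤ M)
    (huniq : ∀ N : Subgroup G, IsCoatom N → zpowers a ≤ N → N = M) :
    ∀ (k : ℕ) (x : G), (fun y : G => ⁅y, a⁆)^[k] x ∈ M → x ∈ M := by
  have hstep : ∀ y : G, ⁅y, a⁆ ∈ M → y ∈ M := by
    intro y hy
    have h1 : y * a * y⁻¹ ∈ M := by
      have := M.mul_mem hy (haM (mem_zpowers a))
      rwa [commutatorElement_def, inv_mul_cancel_right] at this
    have h2 : zpowers a ≤ MulAut.conj y⁻¹ • M :=
      zpowers_le.2 (Coprime.mem_conj_smul.2 (by rwa [inv_inv]))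
    have h3 := Coprime.conj_smul_eq_self_iff.1 (huniq _ (isCoatom_conj hM _) h2)
    rcases hM.le_iff.1 (le_normalizer : M ≤ normalizer (M : Set G)) with e | e
    · exact absurd e (hgen.normalizer_ne_top haM hM.1)
    · rw [e] at h3
      exact inv_inv y ▸ M.inv_mem h3
  intro k
  induction k with
  | zero => intro x hx; exact hx
  | succ k ih =>
    intro x hx
    rw [Function.iterate_succ_apply'] at hx
    exact ih x (hstep _ hx)

theorem iterate_commutator_coe {H : Subgroup G} (a x : H) (k : ℕ) :
    ((fun y : H => ⁅y, a⁆)^[k] x : G) = (fun y : G => ⁅y, (a : G)⁆)^[k] (x : G) :=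
  (Function.Semiconj.iterate_right (f := fun y : H => (y : G))
    (fun y => by simp [commutatorElement_def]) k).eq x

/-- If the conjugates of `a` generate `G`, so do `a` and the `k`-fold commutators with `a`. -/
theorem zpowers_sup_iterate_eq_top_aux : ∀ (n : ℕ) (G : Type u) [Group G] [Finite G],
    Nat.card G ≤ n → ∀ (a : G), GenG (zpowers a) → ∀ k : ℕ,
      zpowers a ⊔ closure (Set.range ((fun y : G => ⁅y, a⁆)^[k])) = ⊤ := by
  intro n
  induction n with
  | zero => intro G _ _ hn; have := Nat.card_pos (α := G); omega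
  | succ n ih =>
    intro G _ _ hn a hgen k
    set L := closure (Set.range ((fun y : G => ⁅y, a⁆)^[k])) with hL
    by_cases ha : zpowers a = ⊤
    · rw [ha, top_sup_eq]
    rcases zipper (zpowers a) hgen ha with hY | ⟨M, ⟨hM, haM⟩, huniq⟩
    · rw [eq_top_iff, ← hY]
      refine sSup_le fun H hH => ?_
      have haH : a ∈ H := hH.1 (mem_zpowers a)
      have hz : (zpowers a).subgroupOf H = zpowers (⟨a, haH⟩ : H) := by
        apply map_injective H.subtype_injective
        rw [map_subgroupOf_eq_of_le hH.1, MonoidHom.map_zpowers]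
        rfl
      have hcard : Nat.card H ≤ n := by
        have : Nat.card H < Nat.card G :=
          lt_of_le_of_ne (card_le_card_group H) fun e => hH.2.1 (eq_top_of_card_eq H e)
        omega
      have hgH : GenG (zpowers (⟨a, haH⟩ : H)) := hz ▸ (genBy_iff hH.1).1 hH.2.2
      have h := congrArg (Subgroup.map H.subtype) (ih H hcard _ hgH k)
      rw [← MonoidHom.range_eq_map, range_subtype, Subgroup.map_sup, MonoidHom.map_zpowers,
        MonoidHom.map_closure] at h
      refine h.ge.trans (sup_le_sup le_rfl (closure_mono ?_))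
      rintro _ ⟨_, ⟨x, rfl⟩, rfl⟩
      exact ⟨(x : G), (iterate_commutator_coe (⟨a, haH⟩ : H) x k).symm⟩
    · by_contra hK
      obtain ⟨X, hX, hKX⟩ := exists_coatom_ge hK
      have hXM : X = M := huniq X ⟨hX, le_sup_left.trans hKX⟩
      refine hM.1 (eq_top_iff.2 fun x _ => ?_)
      refine mem_of_iterate_commutator_mem hgen hM haM (fun N hN haN => huniq N ⟨hN, haN⟩) k x ?_
      exact hXM ▸ hKX (mem_sup_right (subset_closure ⟨x, rfl⟩))

theorem zpowers_sup_iterate_eq_top [Finite G] (a : G) (hgen : GenG (zpowers a)) (k : ℕ) :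
    zpowers a ⊔ closure (Set.range ((fun y : G => ⁅y, a⁆)^[k])) = ⊤ :=
  zpowers_sup_iterate_eq_top_aux _ G le_rfl a hgen k

/-- A left Engel element generates a subnormal subgroup. -/
theorem isSubnormal_zpowers_of_engel_aux : ∀ (n : ℕ) (G : Type u) [Group G] [Finite G],
    Nat.card G ≤ n → ∀ a : G, (∀ x : G, ∃ k : ℕ, (fun y : G => ⁅y, a⁆)^[k] x = 1) →
      (zpowers a).IsSubnormal := by
  intro n
  induction n with
  | zero => intro G _ _ hn; have := Nat.card_pos (α := G); omega
  | succ n ih =>
    intro G _ _ hn a ha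
    have hsub : ∀ H : Subgroup G, zpowers a ≤ H → H ≠ ⊤ →
        ((zpowers a).subgroupOf H).IsSubnormal := by
      intro H haH hH
      have hz : (zpowers a).subgroupOf H = zpowers (⟨a, haH (mem_zpowers a)⟩ : H) := by
        apply map_injective H.subtype_injective
        rw [map_subgroupOf_eq_of_le haH, MonoidHom.map_zpowers]
        rfl
      have hcard : Nat.card H ≤ n := by
        have : Nat.card H < Nat.card G :=
          lt_of_le_of_ne (card_le_card_group H) fun e => hH (eq_top_of_card_eq H e)
        omega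
      rw [hz]
      refine ih H hcard _ fun x => ?_
      obtain ⟨k, hk⟩ := ha x
      exact ⟨k, Subtype.ext ((iterate_commutator_coe _ x k).trans hk)⟩
    by_cases hgen : GenG (zpowers a)
    · by_cases htop : zpowers a = ⊤
      · exact htop ▸ IsSubnormal.top
      exfalso
      rcases zipper (zpowers a) hgen htop with hY | ⟨M, ⟨hM, haM⟩, huniq⟩
      · refine htop (top_le_iff.1 (hY ▸ sSup_le fun H hH => ?_))
        exact (eq_of_genBy_of_isSubnormal hH.1 hH.2.2 (hsub H hH.1 hH.2.1)).ge
      · refine hM.1 (eq_top_iff.2 fun x _ => ?_)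
        obtain ⟨k, hk⟩ := ha x
        exact mem_of_iterate_commutator_mem hgen hM haM (fun N hN haN => huniq N ⟨hN, haN⟩) k x
          (hk ▸ M.one_mem)
    · exact IsSubnormal.trans le_normalClosure
        (hsub _ le_normalClosure hgen) (normalClosure_normal : (normalClosure
          ((zpowers a : Subgroup G) : Set G)).Normal).isSubnormal

theorem isSubnormal_zpowers_of_engel [Finite G] (a : G)
    (ha : ∀ x : G, ∃ k : ℕ, (fun y : G => ⁅y, a⁆)^[k] x = 1) : (zpowers a).IsSubnormal :=
  isSubnormal_zpowers_of_engel_aux _ G le_rfl a ha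

end Cfsg.Agent.Zipper
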